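import Groth.Agent.DefAut.Chart
import Groth.Agent.DefAffHull.Ring
import Groth.Agent.ThickAffine.Main
import Mathlib.AlgebraicGeometry.Morphisms.Flat

/-!
# Morphisms of deformations of a scheme; recognising deformations on affine charts
-/

set_option autoImplicit false
set_option linter.unusedSectionVars false
universe u

open CategoryTheory CategoryTheory.Limits AlgebraicGeometry IsLocalRing ArtFun TopologicalSpace

namespace Groth.Agent.DefGlue

section sHom

variable {R R' : Type u} [CommRing R] [CommRing R'] {S T : Scheme.{u}}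

/-- The structure map on sections. -/
noncomputable def sHom (F : S ⟶ Spec (CommRingCat.of R)) (V : S.Opens) : R →+* Γ(S, V) :=
  ((Scheme.ΓSpecIso (CommRingCat.of R)).inv ≫ F.appTop ≫
    S.presheaf.map (homOfLE (le_top : V ≤ ⊤)).op).hom

theorem sHom_appLE (j : T ⟶ S) (F : S ⟶ Spec (CommRingCat.of R)) (V : S.Opens) (W : T.Opens)
    (e : W ≤ j ⁻¹ᵁ V) (r : R) : j.appLE V W e (sHom F V r) = sHom (j ≫ F) W r := by
  have h := congr($(Scheme.Hom.map_appLE j e (homOfLE (le_top : V ≤ ⊤)).op)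
    (F.appTop ((Scheme.ΓSpecIso (CommRingCat.of R)).inv r)))
  refine h.trans ?_
  change _ = T.presheaf.map (homOfLE (le_top : W ≤ ⊤)).op ((j ≫ F).appTop _)
  rw [Scheme.Hom.comp_appTop]
  rfl

theorem sHom_specMap (φ : R →+* R') (G : S ⟶ Spec (CommRingCat.of R')) (W : S.Opens) (r : R) :
    sHom (G ≫ Spec.map (CommRingCat.ofHom φ)) W r = sHom G W (φ r) := by
  have h := congr($(Scheme.ΓSpecIso_inv_naturality (CommRingCat.ofHom φ)) r)
  change S.presheaf.map _ ((G ≫ Spec.map (CommRingCat.ofHom φ)).appTop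
    ((Scheme.ΓSpecIso (CommRingCat.of R)).inv r)) = S.presheaf.map _ (G.appTop _)
  rw [Scheme.Hom.comp_appTop, ConcreteCategory.comp_apply]
  exact congrArg (fun z => S.presheaf.map (homOfLE (le_top : W ≤ ⊤)).op (G.appTop z)) h.symm

theorem flat_of_sHom {F : S ⟶ Spec (CommRingCat.of R)}
    (H : ∀ V : S.Opens, IsAffineOpen V → (sHom F V).Flat) : Flat F := by
  refine HasRingHomProperty.of_iSup_eq_top (P := @Flat) _ (iSup_affineOpens_eq_top S) fun V => ?_
  have h : sHom F V.1 = (F.appLE ⊤ V.1 le_top).hom.comp (Scheme.ΓSpecIso (CommRingCat.of R)).inv.hom := rfl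
  have h2 := H V.1 V.2
  rw [h] at h2
  let e := (Scheme.ΓSpecIso (CommRingCat.of R)).commRingCatIsoToRingEquiv
  have h3 := (RingHom.Flat.of_bijective (f := e.toRingHom) e.bijective).comp h2
  refine (congrArg RingHom.Flat (RingHom.ext fun r => ?_)).mp h3
  exact congrArg (F.appLE ⊤ V.1 le_top) (e.symm_apply_apply r)

end sHom

variable {Λ k : Type u} [CommRing Λ] [Field k] [Algebra Λ k]
variable {X : Scheme.{u}} (x : X ⟶ Spec (CommRingCat.of k))

/-- Being a deformation of the `k`-algebra `Γ(X, O)`. -/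
abbrev IsDefOn (O : X.Opens) (A : Art Λ k) {R : Type u} [CommRing R] (f : A →+* R) (q : R →+* Γ(X, O)) : Prop :=
  @DefAffHull.IsDef Λ k _ _ _ Γ(X, O) _ (sHom x O).toAlgebra A R _ f q

variable {x}

theorem appLE_congr' {P Q : Scheme.{u}} {a b : P ⟶ Q} (e : a = b) (U : Q.Opens) (V : P.Opens)
    (h₁ : V ≤ a ⁻¹ᵁ U) : a.appLE U V h₁ = b.appLE U V (e ▸ h₁) := by
  subst e
  rfl

variable {A A' A'' : Art Λ k}

theorem isDef_chart (ξ : DefSch X x A) {V : ξ.total.Opens} (hV : IsAffineOpen V) {O : X.Opens}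
    (hO : O = ξ.i ⁻¹ᵁ V) : IsDefOn x O A (sHom ξ.f V) (ξ.i.appLE V O hO.le).hom := by
  subst hO
  letI := (sHom x (ξ.i ⁻¹ᵁ V)).toAlgebra
  obtain ⟨h1, h2, h3⟩ := DefAut.chart ξ hV
  refine ⟨fun a => ?_, ?_, ?_, h1⟩
  · change ξ.i.appLE V (ξ.i ⁻¹ᵁ V) le_rfl (sHom ξ.f V a) = sHom x (ξ.i ⁻¹ᵁ V) (A.res a)
    rw [sHom_appLE, ξ.isPullback.w, sHom_specMap]
    rfl
  · rw [← Scheme.Hom.app_eq_appLE]
    exact h2
  · rw [← Scheme.Hom.app_eq_appLE]
    exact h3.le

theorem isAffineOpen_of_i (ξ : DefSch X x A) {U : ξ.total.Opens} (h : IsAffineOpen (ξ.i ⁻¹ᵁ U)) :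
    IsAffineOpen U := by
  haveI : IsAffine (ξ.i ⁻¹ᵁ U : X.Opens).toScheme := h
  haveI : IsClosedImmersion (ξ.i ∣_ U) :=
    MorphismProperty.of_isPullback (P := @IsClosedImmersion) (isPullback_morphismRestrict ξ.i _).flip inferInstance
  exact Groth.Agent.ThickAffine.isAffine_of_surjective (ξ.i ∣_ U)
    ((MorphismProperty.of_isPullback (P := @Surjective) (isPullback_morphismRestrict ξ.i _).flip
      ⟨DefAut.surjective_i ξ⟩ : Surjective (ξ.i ∣_ U)).surj)

/-- A morphism of deformations over `g`. -/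
structure Over (g : A ⟶ A') (η : DefSch X x A') (ξ : DefSch X x A) : Type u where
  /-- the map of total spaces -/
  map : η.total ⟶ ξ.total
  map_f : map ≫ ξ.f = η.f ≫ Art.specMap g
  i_map : η.i ≫ map = ξ.i

namespace Over

variable {g : A ⟶ A'} {g' : A' ⟶ A''} {η : DefSch X x A'} {ξ : DefSch X x A} {ζ : DefSch X x A''}

theorem surjective_of_i (φ : Over g η ξ) : Function.Surjective φ.map := fun y => by
  obtain ⟨p, rfl⟩ := DefAut.surjective_i ξ y
  exact ⟨η.i p, congr($(φ.i_map) p)⟩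

instance isAffineHom (φ : Over g η ξ) : IsAffineHom φ.map := by
  refine ⟨fun V hV => isAffineOpen_of_i η ?_⟩
  rw [← Scheme.Hom.comp_preimage, φ.i_map]
  exact hV.preimage ξ.i

theorem isDef_source (φ : Over g η ξ) {V : ξ.total.Opens} (hV : IsAffineOpen V) {O : X.Opens}
    (hO : O = ξ.i ⁻¹ᵁ V) :
    IsDefOn x O A' (sHom η.f (φ.map ⁻¹ᵁ V))
      (η.i.appLE (φ.map ⁻¹ᵁ V) O (by rw [hO, ← Scheme.Hom.comp_preimage, φ.i_map])).hom :=
  isDef_chart η (hV.preimage φ.map) (by rw [hO, ← Scheme.Hom.comp_preimage, φ.i_map])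

theorem appLE_sHom (φ : Over g η ξ) (V : ξ.total.Opens) (W : η.total.Opens) (e : W ≤ φ.map ⁻¹ᵁ V) (a : A) :
    φ.map.appLE V W e (sHom ξ.f V a) = sHom η.f W (g a) := by
  rw [sHom_appLE, φ.map_f, sHom_specMap]
  rfl

theorem i_appLE (φ : Over g η ξ) (V : ξ.total.Opens) (W : η.total.Opens) (O : X.Opens)
    (e : W ≤ φ.map ⁻¹ᵁ V) (e' : O ≤ η.i ⁻¹ᵁ W) (e'' : O ≤ ξ.i ⁻¹ᵁ V) (r : Γ(ξ.total, V)) :
    η.i.appLE W O e' (φ.map.appLE V W e r) = ξ.i.appLE V O e'' r := by
  rw [← ConcreteCategory.comp_apply, Scheme.Hom.appLE_comp_appLE]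
  exact congr($(appLE_congr' φ.i_map V O _) r)

/-- Composition. -/
def comp (ψ : Over g' ζ η) (φ : Over g η ξ) : Over (g ≫ g') ζ ξ where
  map := ψ.map ≫ φ.map
  map_f := by rw [Category.assoc, φ.map_f, ← Category.assoc, ψ.map_f, Art.specMap_comp, Category.assoc]
  i_map := by rw [← Category.assoc, ψ.i_map, φ.i_map]

end Over

/-- A morphism over the identity is an isomorphism. -/
theorem isIso_of_over {η ξ : DefSch X x A} (φ : η.total ⟶ ξ.total) (hf : φ ≫ ξ.f = η.f)
    (hi : η.i ≫ φ = ξ.i) : IsIso φ := by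
  let Φ : Over (𝟙 A) η ξ := ⟨φ, by rw [hf, Art.specMap_id, Category.comp_id], hi⟩
  haveI : IsAffineHom φ := Φ.isAffineHom
  have hb : ∀ V, IsAffineOpen V → Function.Bijective (φ.app V) := fun V hV => by
    letI := (sHom x (ξ.i ⁻¹ᵁ V)).toAlgebra
    have h1 := isDef_chart ξ hV (O := ξ.i ⁻¹ᵁ V) rfl
    have h2 := Φ.isDef_source hV (O := ξ.i ⁻¹ᵁ V) rfl
    rw [Scheme.Hom.app_eq_appLE]
    refine DefAffHull.IsDef.bijective_hom h1 h2 _ (fun a => ?_) fun r => ?_
    · exact Φ.appLE_sHom V _ le_rfl a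
    · exact Φ.i_appLE V _ _ le_rfl _ le_rfl r
  haveI : IsClosedImmersion φ :=
    isClosedImmersion_iff_isAffineHom.2 ⟨inferInstance, fun V hV => (hb V hV).2⟩
  refine IsClosedImmersion.isIso_iff_ker_eq_bot.2 (le_bot_iff.1 fun V r hr => ?_)
  rw [Scheme.Hom.ker_apply, RingHom.mem_ker] at hr
  rw [Scheme.IdealSheafData.ideal_bot, Pi.bot_apply, Submodule.mem_bot]
  exact (hb V.1 V.2).1 (hr.trans (map_zero _).symm)

namespace Over

variable {g : A ⟶ A'} {η η' : DefSch X x A'} {ξ : DefSch X x A}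

/-- The map to the base change. -/
noncomputable def toBaseChange (φ : Over g η ξ) : η.total ⟶ (ξ.baseChange g).total :=
  pullback.lift φ.map η.f φ.map_f

@[reassoc]
theorem toBaseChange_fst (φ : Over g η ξ) :
    φ.toBaseChange ≫ pullback.fst ξ.f (Art.specMap g) = φ.map := pullback.lift_fst _ _ _

@[reassoc]
theorem toBaseChange_snd (φ : Over g η ξ) :
    φ.toBaseChange ≫ (ξ.baseChange g).f = η.f := pullback.lift_snd _ _ _

theorem i_toBaseChange (φ : Over g η ξ) : η.i ≫ φ.toBaseChange = (ξ.baseChange g).i := by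
  apply pullback.hom_ext
  · rw [Category.assoc, toBaseChange_fst, φ.i_map, DefSch.baseChange_i_fst]
  · rw [Category.assoc]
    erw [toBaseChange_snd]
    exact η.i_f.trans (DefSch.baseChange_i_f ξ g).symm

/-- A morphism over `g` identifies its source with the base change. -/
noncomputable def iso (φ : Over g η ξ) : η.Iso (ξ.baseChange g) :=
  haveI := isIso_of_over φ.toBaseChange φ.toBaseChange_snd φ.i_toBaseChange
  ⟨asIso φ.toBaseChange, φ.toBaseChange_snd, φ.i_toBaseChange⟩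

theorem iso_hom (φ : Over g η ξ) : φ.iso.iso.hom = φ.toBaseChange := rfl

theorem map_cl (φ : Over g η ξ) : (defFunctor X x).map g ξ.cl = η.cl :=
  (Quotient.sound ⟨φ.iso.symm⟩ : (ξ.baseChange g).cl = η.cl)

/-- The morphism given by an isomorphism with the base change. -/
noncomputable def ofIso (e : η.Iso (ξ.baseChange g)) : Over g η ξ where
  map := e.iso.hom ≫ pullback.fst ξ.f (Art.specMap g)
  map_f := by
    rw [Category.assoc, pullback.condition, ← Category.assoc]
    exact congrArg (· ≫ Art.specMap g) e.hom_f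
  i_map := by rw [← Category.assoc, e.i_hom, DefSch.baseChange_i_fst]

theorem nonempty_of_map_cl (h : (defFunctor X x).map g ξ.cl = η.cl) : Nonempty (Over g η ξ) := by
  obtain ⟨e⟩ := Quotient.exact h
  exact ⟨ofIso e.symm⟩

/-- Precomposition with an isomorphism. -/
def precomp (β : η'.Iso η) (φ : Over g η ξ) : Over g η' ξ where
  map := β.iso.hom ≫ φ.map
  map_f := by rw [Category.assoc, φ.map_f, ← Category.assoc, β.hom_f]
  i_map := by rw [← Category.assoc, β.i_hom, φ.i_map]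

theorem exists_auto (φ : Over g η ξ) (ψ : Over g η' ξ) :
    ∃ β : η'.Iso η, β.iso.hom ≫ φ.map = ψ.map := by
  refine ⟨ψ.iso.trans φ.iso.symm, ?_⟩
  change (ψ.iso.iso.hom ≫ φ.iso.iso.inv) ≫ φ.map = ψ.map
  conv_lhs => rw [← φ.toBaseChange_fst, ← iso_hom]
  rw [Category.assoc, Iso.inv_hom_id_assoc, iso_hom, toBaseChange_fst]

theorem auto_unique (φ : Over g η ξ) {β γ : η'.total ⟶ η.total} (hf : β ≫ η.f = γ ≫ η.f)
    (hm : β ≫ φ.map = γ ≫ φ.map) : β = γ := by
  haveI := isIso_of_over φ.toBaseChange φ.toBaseChange_snd φ.i_toBaseChange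
  rw [← cancel_mono φ.toBaseChange]
  apply pullback.hom_ext
  · rw [Category.assoc, Category.assoc, toBaseChange_fst, hm]
  · rw [Category.assoc, Category.assoc]
    erw [toBaseChange_snd, hf]

end Over

/-- The tautological morphism from the base change. -/
noncomputable def Over.taut (ξ : DefSch X x A) (g : A ⟶ A') : Over g (ξ.baseChange g) ξ :=
  ⟨pullback.fst ξ.f (Art.specMap g), pullback.condition, DefSch.baseChange_i_fst ξ g⟩

end Groth.Agent.DefGlue
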