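import Groth.Agent.DefGlue.Push
import Groth.Agent.ArtFunLib.Small
import Groth.Agent.ArtFunLib.Functor

/-!
# Homogeneity of the deformation functor; lifting automorphisms
-/

set_option autoImplicit false
set_option linter.unusedSectionVars false
universe u

open CategoryTheory CategoryTheory.Limits AlgebraicGeometry IsLocalRing ArtFun TopologicalSpace
open Groth.Agent.ThickPush

namespace Groth.Agent.DefGlue

variable {Λ k : Type u} [CommRing Λ] [Field k] [Algebra Λ k]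
variable {X : Scheme.{u}} {x : X ⟶ Spec (CommRingCat.of k)}

theorem flat_str (x : X ⟶ Spec (CommRingCat.of k)) : Flat x :=
  flat_of_sHom fun V _ => by
    letI := (sHom x V).toAlgebra
    exact (inferInstance : Module.Flat k Γ(X, V))

theorem isIso_i (ξ : DefSch X x (Art.base Λ k)) : IsIso ξ.i :=
  ξ.isPullback.isIso_fst_of_isIso

theorem h0 (x : X ⟶ Spec (CommRingCat.of k)) : H0 (defFunctor (Λ := Λ) X x) := by
  refine ⟨⟨(DefSch.self X x (flat_str x)).cl⟩, ⟨fun c d => ?_⟩⟩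
  induction c using Quotient.inductionOn with | h ξ => ?_
  induction d using Quotient.inductionOn with | h η => ?_
  haveI := isIso_i ξ
  haveI := isIso_i η
  refine Quotient.sound ⟨⟨asIso (inv ξ.i ≫ η.i), ?_, by simp⟩⟩
  rw [asIso_hom, Category.assoc, IsIso.inv_comp_eq, η.i_f, ξ.i_f]

/-- Change the name of the base map. -/
def Over.cast {A A' : Art Λ k} {g g₂ : A ⟶ A'} {η : DefSch X x A'} {ξ : DefSch X x A}
    (φ : Over g η ξ) (h : g = g₂) : Over g₂ η ξ :=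
  ⟨φ.map, h ▸ φ.map_f, φ.i_map⟩

/-- Automorphisms lift along `g`. -/
def AutLift (X : Scheme.{u}) (x : X ⟶ Spec (CommRingCat.of k)) {A A' : Art Λ k} (g : A ⟶ A') : Prop :=
  ∀ (ξ : DefSch X x A') (ξ' : DefSch X x A) (φ : Over g ξ ξ') (α : ξ.Iso ξ),
    ∃ β : ξ'.Iso ξ', φ.map ≫ β.iso.hom = α.iso.hom ≫ φ.map

theorem iso_ext {A : Art Λ k} {ξ η : DefSch X x A} {a b : ξ.Iso η} (h : a.iso.hom = b.iso.hom) : a = b := by
  obtain ⟨a, _, _⟩ := a
  obtain ⟨b, _, _⟩ := b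
  obtain rfl : a = b := Iso.ext h
  rfl

theorem autLift_iff {A A' : Art Λ k} (g : A ⟶ A') :
    AutLift X x g ↔ ∀ ξ' : DefSch X x A, Function.Surjective (fun e : ξ'.Iso ξ' => e.baseChange g) := by
  constructor
  · intro H ξ' α
    obtain ⟨β, hβ⟩ := H _ ξ' (Over.taut ξ' g) α
    refine ⟨β, iso_ext (pullback.hom_ext ?_ ?_)⟩
    · change DefSch.pullMap β.iso.hom β.hom_f g ≫ pullback.fst _ _ = _
      rw [DefSch.pullMap_fst]
      exact hβ
    · change DefSch.pullMap β.iso.hom β.hom_f g ≫ pullback.snd _ _ = _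
      rw [DefSch.pullMap_snd]
      exact α.hom_f.symm
  · intro H ξ ξ' φ α
    obtain ⟨β, hβ⟩ := H ξ' ((φ.iso.symm.trans α).trans φ.iso)
    refine ⟨β, ?_⟩
    have h1 : DefSch.pullMap β.iso.hom β.hom_f g =
        (φ.iso.iso.inv ≫ α.iso.hom) ≫ φ.iso.iso.hom := congrArg (fun e => e.iso.hom) hβ
    calc φ.map ≫ β.iso.hom = φ.toBaseChange ≫ pullback.fst _ _ ≫ β.iso.hom := by
          rw [← Category.assoc, φ.toBaseChange_fst]
      _ = φ.iso.iso.hom ≫ DefSch.pullMap β.iso.hom β.hom_f g ≫ pullback.fst _ _ := by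
          rw [DefSch.pullMap_fst]
          rfl
      _ = α.iso.hom ≫ φ.map := by
          rw [h1, Category.assoc, Category.assoc, Iso.hom_inv_id_assoc, Over.iso_hom, φ.toBaseChange_fst]

variable {B A A' A'' : Art Λ k} {p' : B ⟶ A'} {p'' : B ⟶ A''} {g' : A' ⟶ A} {g'' : A'' ⟶ A}

theorem s1 (x : X ⟶ Spec (CommRingCat.of k)) : S1 (defFunctor (Λ := Λ) X x) := by
  intro B A A' A'' p' p'' g' g'' hP hg
  refine ArtFunLib.cmp_surjective fun x₁ x₂ hx => ?_
  induction x₁ using Quotient.inductionOn with | h ξ' => ?_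
  induction x₂ using Quotient.inductionOn with | h ξ'' => ?_
  obtain ⟨φ''⟩ := Over.nonempty_of_map_cl (g := g'') (ξ := ξ'') (η := ξ'.baseChange g') hx.symm
  haveI := Over.isClosedImmersion hg φ''
  exact ⟨(push hP hg (Over.taut ξ' g') φ'').cl, (pushFst hP hg (Over.taut ξ' g') φ'').map_cl,
    (pushSnd hP hg (Over.taut ξ' g') φ'').map_cl⟩

/-- Two ways through a fibre-product square differ by an automorphism. -/
theorem exists_agree (hP : Art.IsFibreProd p' p'' g' g'') {ξ : DefSch X x A} {ξ' : DefSch X x A'}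
    {ξ'' : DefSch X x A''} (φ' : Over g' ξ ξ') (φ'' : Over g'' ξ ξ'') {z : DefSch X x B}
    (ψ' : Over p' ξ' z) (ψ'' : Over p'' ξ'' z) :
    ∃ α : ξ.Iso ξ, α.iso.hom ≫ φ''.map ≫ ψ''.map = φ'.map ≫ ψ'.map :=
  Over.exists_auto ((φ''.comp ψ'').cast hP.w.symm) (φ'.comp ψ')

theorem injective_of_agree (hP : Art.IsFibreProd p' p'' g' g'') (hg : Function.Surjective g'')
    (hfix : ∀ (ξ : DefSch X x A) (ξ' : DefSch X x A') (ξ'' : DefSch X x A'') (φ' : Over g' ξ ξ')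
      (φ'' : Over g'' ξ ξ'') (z : DefSch X x B) (ψ' : Over p' ξ' z) (ψ'' : Over p'' ξ'' z),
      ∃ χ : Over p'' ξ'' z, φ''.map ≫ χ.map = φ'.map ≫ ψ'.map) :
    Function.Injective (cmp (defFunctor (Λ := Λ) X x) hP) := by
  refine ArtFunLib.cmp_injective fun z₁ z₂ h₁ h₂ => ?_
  induction z₁ using Quotient.inductionOn with | h η₁ => ?_
  induction z₂ using Quotient.inductionOn with | h η₂ => ?_
  let ξ' := η₁.baseChange p'
  let ξ'' := η₁.baseChange p''
  obtain ⟨χ'⟩ := Over.nonempty_of_map_cl (g := p') (ξ := η₂) (η := ξ') h₁.symm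
  obtain ⟨χ''⟩ := Over.nonempty_of_map_cl (g := p'') (ξ := η₂) (η := ξ'') h₂.symm
  obtain ⟨φ''⟩ := Over.nonempty_of_map_cl (g := g'') (ξ := ξ'') (η := ξ'.baseChange g')
    (ArtFunLib.map_eq_of_comp (defFunctor (Λ := Λ) X x) hP.w η₁.cl).symm
  haveI := Over.isClosedImmersion hg φ''
  obtain ⟨ω₁, hω₁⟩ := hfix _ _ _ (Over.taut ξ' g') φ'' η₁ (Over.taut η₁ p') (Over.taut η₁ p'')
  obtain ⟨ω₂, hω₂⟩ := hfix _ _ _ (Over.taut ξ' g') φ'' η₂ χ' χ''
  obtain ⟨e₁⟩ := nonempty_iso_push hP hg (Over.taut ξ' g') φ'' (Over.taut η₁ p') ω₁ hω₁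
  obtain ⟨e₂⟩ := nonempty_iso_push hP hg (Over.taut ξ' g') φ'' χ' ω₂ hω₂
  exact Quotient.sound ⟨e₁.symm.trans e₂⟩

theorem heps (x : X ⟶ Spec (CommRingCat.of k)) : Heps (defFunctor (Λ := Λ) X x) := by
  intro B A' p' p'' hP
  refine ⟨injective_of_agree hP (ArtFunLib.toBase_surjective _) fun ξ ξ' ξ'' φ' φ'' z ψ' ψ'' => ⟨ψ'', ?_⟩,
    s1 x p' p'' _ _ hP (ArtFunLib.toBase_surjective _)⟩
  haveI := isIso_i ξ
  rw [← cancel_epi ξ.i, ← Category.assoc, φ''.i_map, ψ''.i_map, ← Category.assoc, φ'.i_map, ψ'.i_map]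

theorem injective_of_autLift (hP : Art.IsFibreProd p' p'' g' g'') (hg : Function.Surjective g'')
    (hl : AutLift X x g'') : Function.Injective (cmp (defFunctor (Λ := Λ) X x) hP) := by
  refine injective_of_agree hP hg fun ξ ξ' ξ'' φ' φ'' z ψ' ψ'' => ?_
  obtain ⟨α, hα⟩ := exists_agree hP φ' φ'' ψ' ψ''
  obtain ⟨β, hβ⟩ := hl ξ ξ'' φ'' α
  exact ⟨ψ''.precomp β, by
    change φ''.map ≫ β.iso.hom ≫ ψ''.map = φ'.map ≫ ψ'.map
    rw [← Category.assoc, hβ, Category.assoc, hα]⟩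

theorem autLift_of_injective [IsNoetherianRing Λ] [Module.Finite Λ k] {A' A : Art Λ k} (p : A' ⟶ A) (hp : Function.Surjective p)
    (hinj : ∀ ⦃B : Art Λ k⦄ (p₁ p₂ : B ⟶ A') (h : Art.IsFibreProd p₁ p₂ p p),
      Function.Injective (cmp (defFunctor (Λ := Λ) X x) h)) : AutLift X x p := by
  intro ξ ξ' φ α
  obtain ⟨B, p₁, p₂, hP⟩ := ArtFunLib.exists_fibreProd p p hp
  haveI := Over.isClosedImmersion hp φ
  let z₁ := push hP hp φ φ
  let z₂ := push hP hp (φ.precomp α) φ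
  let u₁ := pushFst hP hp φ φ
  let w₁ := pushSnd hP hp φ φ
  let u₂ := pushFst hP hp (φ.precomp α) φ
  let w₂ := pushSnd hP hp (φ.precomp α) φ
  have hcl : z₁.cl = z₂.cl := hinj p₁ p₂ hP (FibProd.ext (u₁.map_cl.trans u₂.map_cl.symm)
    (w₁.map_cl.trans w₂.map_cl.symm))
  obtain ⟨θ⟩ := Quotient.exact hcl
  let Θ : Over (𝟙 B) z₁ z₂ := ⟨θ.iso.hom, by rw [θ.hom_f, Art.specMap_id, Category.comp_id], θ.i_hom⟩
  obtain ⟨β', hβ'⟩ := Over.exists_auto u₂ ((u₁.comp Θ).cast (Category.id_comp _))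
  obtain ⟨β'', hβ''⟩ := Over.exists_auto w₂ ((w₁.comp Θ).cast (Category.id_comp _))
  change β'.iso.hom ≫ u₂.map = u₁.map ≫ θ.iso.hom at hβ'
  change β''.iso.hom ≫ w₂.map = w₁.map ≫ θ.iso.hom at hβ''
  have restr : ∀ β : ξ'.Iso ξ', ∃ γ : ξ.Iso ξ, γ.iso.hom ≫ φ.map = φ.map ≫ β.iso.hom := fun β =>
    Over.exists_auto φ
      ⟨φ.map ≫ β.iso.hom, by rw [Category.assoc, β.hom_f, φ.map_f],
        by rw [← Category.assoc, φ.i_map, β.i_hom]⟩
  obtain ⟨γ', hγ'⟩ := restr β'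
  obtain ⟨γ'', hγ''⟩ := restr β''
  have hc₁ : φ.map ≫ w₁.map = φ.map ≫ u₁.map := condition φ.map φ.map
  have hc₂ : φ.map ≫ w₂.map = (α.iso.hom ≫ φ.map) ≫ u₂.map := condition φ.map (φ.precomp α).map
  have key : (γ''.iso.hom ≫ α.iso.hom) ≫ φ.map = γ'.iso.hom ≫ φ.map := by
    have h1 : (γ''.iso.hom ≫ α.iso.hom) ≫ φ.map ≫ u₂.map = γ'.iso.hom ≫ φ.map ≫ u₂.map := by
      calc (γ''.iso.hom ≫ α.iso.hom) ≫ φ.map ≫ u₂.map = γ''.iso.hom ≫ φ.map ≫ w₂.map := by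
            rw [hc₂]; simp
        _ = φ.map ≫ β''.iso.hom ≫ w₂.map := by rw [← Category.assoc, hγ'', Category.assoc]
        _ = φ.map ≫ β'.iso.hom ≫ u₂.map := by
            rw [hβ'', hβ', ← Category.assoc, hc₁, Category.assoc]
        _ = γ'.iso.hom ≫ φ.map ≫ u₂.map := by rw [← Category.assoc, ← hγ', Category.assoc]
    have h2 := Over.auto_unique (φ.comp u₂) (η' := ξ)
      (β := γ''.iso.hom ≫ α.iso.hom) (γ := γ'.iso.hom)
      (by rw [Category.assoc, α.hom_f, γ''.hom_f, γ'.hom_f]) h1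
    rw [h2]
  refine ⟨β''.symm.trans β', ?_⟩
  change φ.map ≫ β''.iso.inv ≫ β'.iso.hom = α.iso.hom ≫ φ.map
  have h3 : φ.map ≫ β''.iso.inv = γ''.iso.inv ≫ φ.map := by
    rw [Iso.eq_inv_comp, ← Category.assoc, hγ'', Category.assoc, Iso.hom_inv_id, Category.comp_id]
  rw [← Category.assoc, h3, Category.assoc, ← hγ', ← key, ← Category.assoc, ← Category.assoc,
    Iso.inv_hom_id, Category.id_comp]

theorem autLift_of_bijective {A' A : Art Λ k} (p : A' ⟶ A) (hp : Function.Bijective p) : AutLift X x p := by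
  intro ξ ξ' φ α
  haveI : IsIso p := ArtFunLib.isIso_of_bijective p hp
  haveI : IsIso (Art.specMap p) := ⟨Art.specMap (inv p),
    by rw [← Art.specMap_comp, IsIso.inv_hom_id, Art.specMap_id],
    by rw [← Art.specMap_comp, IsIso.hom_inv_id, Art.specMap_id]⟩
  haveI := isIso_of_over φ.toBaseChange φ.toBaseChange_snd φ.i_toBaseChange
  haveI : IsIso φ.map := by rw [← φ.toBaseChange_fst]; infer_instance
  refine ⟨⟨(asIso φ.map).symm ≪≫ α.iso ≪≫ asIso φ.map, ?_, ?_⟩, by simp⟩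
  · simp only [Iso.trans_hom, Iso.symm_hom, asIso_inv, asIso_hom, Category.assoc]
    rw [φ.map_f, IsIso.inv_comp_eq, φ.map_f, ← Category.assoc, α.hom_f]
  · simp only [Iso.trans_hom, Iso.symm_hom, asIso_inv, asIso_hom]
    conv_lhs => rw [← φ.i_map]
    rw [Category.assoc, IsIso.hom_inv_id_assoc, ← Category.assoc, α.i_hom, φ.i_map]

theorem autLift_comp {A₁ A₂ A₃ : Art Λ k} (q : A₁ ⟶ A₂) (s : A₂ ⟶ A₃) (hq : AutLift X x q)
    (hs : AutLift X x s) : AutLift X x (q ≫ s) := by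
  intro ξ ξ' φ α
  let ξc := ξ'.baseChange q
  let φ₂ : Over s ξ ξc :=
    ⟨pullback.lift φ.map (ξ.f ≫ Art.specMap s)
      (by rw [φ.map_f, Category.assoc, Art.specMap_comp]),
    pullback.lift_snd _ _ _, by
      apply pullback.hom_ext
      · rw [Category.assoc, pullback.lift_fst, φ.i_map, DefSch.baseChange_i_fst]
      · rw [Category.assoc, pullback.lift_snd, ← Category.assoc, ξ.i_f, Category.assoc, Art.specRes_comp]
        exact (DefSch.baseChange_i_f ξ' q).symm⟩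
  have hfac : φ₂.map ≫ pullback.fst ξ'.f (Art.specMap q) = φ.map := pullback.lift_fst _ _ _
  obtain ⟨γ, hγ⟩ := hs ξ ξc φ₂ α
  obtain ⟨β, hβ⟩ := hq ξc ξ' (Over.taut ξ' q) γ
  refine ⟨β, ?_⟩
  change pullback.fst ξ'.f (Art.specMap q) ≫ β.iso.hom = γ.iso.hom ≫ pullback.fst ξ'.f (Art.specMap q) at hβ
  rw [← hfac, Category.assoc, hβ, ← Category.assoc, hγ, Category.assoc]

theorem autLift_of_small (h : ∀ ⦃A' A : Art Λ k⦄ (p : A' ⟶ A), Art.IsSmallExt p → AutLift X x p)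
    {A' A : Art Λ k} (p : A' ⟶ A) (hp : Function.Surjective p) : AutLift X x p :=
  ArtFunLib.surj_induction (P := fun _ _ f => AutLift X x f) (fun _ _ e he => autLift_of_bijective e he)
    (fun _ _ _ q s _ hs hq => autLift_comp q s hq (h s hs)) p hp

end Groth.Agent.DefGlue
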