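import Groth.Agent.DefGlue.Basic
import Groth.Agent.ThickPush.Pushout

/-!
# Gluing deformations along a fibre product of Artinian rings
-/

set_option autoImplicit false
set_option linter.unusedSectionVars false
universe u

open CategoryTheory CategoryTheory.Limits AlgebraicGeometry IsLocalRing ArtFun TopologicalSpace
open Groth.Agent.ThickPush

namespace Groth.Agent.DefGlue

variable {Λ k : Type u} [CommRing Λ] [Field k] [Algebra Λ k]
variable {X : Scheme.{u}} {x : X ⟶ Spec (CommRingCat.of k)}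

theorem isDef_of_bijective {B₀ P P' : Type u} [CommRing B₀] [Algebra k B₀] [CommRing P] [CommRing P']
    {B : Art Λ k} {F : B →+* P} {Q : P →+* B₀} (h : DefAffHull.IsDef B F Q) {ψ : P →+* P'}
    (hψ : Function.Bijective ψ) {F' : B →+* P'} {Q' : P' →+* B₀} (hF : ∀ b, ψ (F b) = F' b)
    (hQ : ∀ p, Q' (ψ p) = Q p) : DefAffHull.IsDef B F' Q' := by
  refine ⟨fun b => by rw [← hF, hQ, h.comp], fun c => ?_, fun p' hp' => ?_, ?_⟩
  · obtain ⟨p, rfl⟩ := h.surj c
    exact ⟨ψ p, hQ p⟩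
  · obtain ⟨p, rfl⟩ := hψ.2 p'
    rw [RingHom.mem_ker, hQ] at hp'
    have := Ideal.mem_map_of_mem ψ (h.ker_le hp')
    rwa [Ideal.map_map, show ψ.comp F = F' from RingHom.ext hF] at this
  · rw [← show ψ.comp F = F' from RingHom.ext hF]
    exact h.flat.comp (RingHom.Flat.of_bijective hψ)

/-- A scheme over `B` which is a deformation on every affine chart is a deformation. -/
noncomputable def ofIsDef {B : Art Λ k} {S : Scheme.{u}} (F : S ⟶ Art.spec B) (i : X ⟶ S)
    [IsClosedImmersion i] (w : i ≫ F = x ≫ Art.specRes B)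
    (h : ∀ V : S.Opens, IsAffineOpen V →
      IsDefOn x (i ⁻¹ᵁ V) B (sHom F V) (i.appLE V (i ⁻¹ᵁ V) le_rfl).hom) : DefSch X x B where
  total := S
  f := F
  flat := flat_of_sHom fun V hV =>
    @DefAffHull.IsDef.flat Λ k _ _ _ Γ(X, i ⁻¹ᵁ V) _ (sHom x (i ⁻¹ᵁ V)).toAlgebra B Γ(S, V) _ _ _ (h V hV)
  i := i
  isPullback := by
    haveI : IsClosedImmersion (Art.specRes B) := IsClosedImmersion.spec_of_surjective _ B.res_surjective
    let l : X ⟶ pullback F (Art.specRes B) := pullback.lift i x w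
    have hl : l ≫ pullback.fst _ _ = i := pullback.lift_fst _ _ _
    have hk : i.ker = (pullback.fst F (Art.specRes B)).ker := by
      refine le_antisymm (fun V r hr => ?_) (fun V r hr => ?_)
      · rw [Scheme.Hom.ker_apply, RingHom.mem_ker] at hr ⊢
        letI := (sHom x (i ⁻¹ᵁ V.1)).toAlgebra
        have h1 := (h V.1 V.2).ker_le (show r ∈ RingHom.ker (i.appLE V.1 (i ⁻¹ᵁ V.1) le_rfl).hom by
          rw [RingHom.mem_ker, ← Scheme.Hom.app_eq_appLE]; exact hr)
        have h2 : (maximalIdeal B).map (sHom F V.1) ≤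
            RingHom.ker ((pullback.fst F (Art.specRes B)).app V.1).hom := by
          refine Ideal.map_le_iff_le_comap.2 fun a ha => ?_
          rw [Ideal.mem_comap, RingHom.mem_ker, Scheme.Hom.app_eq_appLE, sHom_appLE, pullback.condition,
            sHom_specMap]
          change sHom _ _ (B.res a) = 0
          rw [(Art.mem_maximalIdeal_iff B a).1 ha, map_zero]
        exact h2 h1
      · rw [Scheme.Hom.ker_apply, RingHom.mem_ker] at hr ⊢
        have h1 := congr($(Scheme.Hom.congr_app hl.symm V.1) r)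
        refine h1.trans ?_
        change X.presheaf.map _ (l.app _ ((pullback.fst F (Art.specRes B)).app V.1 r)) = 0
        rw [show (pullback.fst F (Art.specRes B)).app V.1 r = 0 from hr, map_zero, map_zero]
    haveI : IsIso l := IsClosedImmersion.isIso_of_ker_eq i (pullback.fst F (Art.specRes B)) l hl hk
    exact (IsPullback.of_hasPullback F (Art.specRes B)).of_iso (asIso l).symm (Iso.refl _) (Iso.refl _)
      (Iso.refl _)
      (by rw [Iso.refl_hom, Category.comp_id, Iso.symm_hom, asIso_inv, IsIso.eq_inv_comp, hl])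
      (by rw [Iso.refl_hom, Category.comp_id, Iso.symm_hom, asIso_inv, IsIso.eq_inv_comp, pullback.lift_snd])
      (by simp) (by simp)

variable {B A A' A'' : Art Λ k} {p' : B ⟶ A'} {p'' : B ⟶ A''} {g' : A' ⟶ A} {g'' : A'' ⟶ A}
variable (hP : Art.IsFibreProd p' p'' g' g'') (hg : Function.Surjective g'')
variable {ξ : DefSch X x A} {ξ' : DefSch X x A'} {ξ'' : DefSch X x A''}
variable (φ' : Over g' ξ ξ') (φ'' : Over g'' ξ ξ'')

include hg in
theorem Over.isClosedImmersion {η : DefSch X x A''} (φ : Over g'' ξ η) : IsClosedImmersion φ.map := by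
  haveI := isIso_of_over φ.toBaseChange φ.toBaseChange_snd φ.i_toBaseChange
  haveI : IsClosedImmersion (Art.specMap g'') := IsClosedImmersion.spec_of_surjective _ hg
  rw [← φ.toBaseChange_fst]
  infer_instance

instance (η : DefSch X x A'') (φ : Over g'' ξ η) : Surjective φ.map := ⟨φ.surjective_of_i⟩

theorem w_struct (hP : Art.IsFibreProd p' p'' g' g'') (φ' : Over g' ξ ξ') (φ'' : Over g'' ξ ξ'') :
    φ''.map ≫ ξ''.f ≫ Art.specMap p'' = φ'.map ≫ ξ'.f ≫ Art.specMap p' := by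
  rw [← Category.assoc, φ''.map_f, ← Category.assoc φ'.map, φ'.map_f, Category.assoc, Category.assoc,
    ← Art.specMap_comp, ← Art.specMap_comp, hP.w]

include hP hg in
theorem isDef_push [IsClosedImmersion φ''.map] (V : (scheme φ''.map φ'.map).Opens) (hV : IsAffineOpen V) :
    IsDefOn x ((ξ'.i ≫ bMor φ''.map φ'.map) ⁻¹ᵁ V) B (sHom (descMor (w_struct hP φ' φ'')) V)
      ((ξ'.i ≫ bMor φ''.map φ'.map).appLE V ((ξ'.i ≫ bMor φ''.map φ'.map) ⁻¹ᵁ V) le_rfl).hom := by
  let V₁ : ξ'.total.Opens := V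
  have hV₁ : IsAffineOpen V₁ := hV.preimage (bMor φ''.map φ'.map)
  let W₂ : ξ''.total.Opens := pre φ''.map φ'.map V₁
  let W₀ : ξ.total.Opens := φ'.map ⁻¹ᵁ V₁
  let O : X.Opens := ξ'.i ⁻¹ᵁ V₁
  have hO₀ : O = ξ.i ⁻¹ᵁ W₀ := by
    change ξ'.i ⁻¹ᵁ V₁ = ξ.i ⁻¹ᵁ φ'.map ⁻¹ᵁ V₁
    rw [← Scheme.Hom.comp_preimage, φ'.i_map]
  have hO₂ : O = ξ''.i ⁻¹ᵁ W₂ := by
    rw [← φ''.i_map, Scheme.Hom.comp_preimage, preimage_pre, hO₀]
  letI := (sHom x O).toAlgebra
  obtain ⟨P, _, F, Q, π', π'', hD, hπ', hπ'', hQ', hQ'', hex, huniq, hcomm⟩ :=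
    DefAffHull.exists_fibre_product_comm hP hg
      (isDef_chart ξ (hV₁.preimage φ'.map) hO₀)
      (isDef_chart ξ' hV₁ (O := O) rfl)
      (isDef_chart ξ'' (isAffineOpen_pre φ''.map φ'.map hV₁) hO₂)
      (φ'.map.appLE V₁ W₀ le_rfl).hom (φ''.map.appLE W₂ W₀ (le_pre _ _ _)).hom
      (fun a => φ'.appLE_sHom V₁ W₀ le_rfl a) (fun a => φ''.appLE_sHom W₂ W₀ (le_pre _ _ _) a)
      (fun r => φ'.i_appLE V₁ W₀ O le_rfl _ _ r) (fun r => φ''.i_appLE W₂ W₀ O (le_pre _ _ _) _ _ r)
  have hmem : ∀ p : P, (π' p, π'' p) ∈ sec φ''.map φ'.map V₁ := fun p => by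
    rw [mem_sec]
    exact hcomm p
  let ψ : P →+* sec φ''.map φ'.map V₁ := (π'.prod π'').codRestrict _ hmem
  have hψ : Function.Bijective ψ := by
    refine ⟨fun r s e => huniq r s (congrArg (fun z : sec φ''.map φ'.map V₁ => z.1.1) e)
      (congrArg (fun z : sec φ''.map φ'.map V₁ => z.1.2) e), fun z => ?_⟩
    obtain ⟨r, h1, h2⟩ := hex z.1.1 z.1.2 (sec_prop _ _ z)
    exact ⟨r, sec_ext _ _ h1 h2⟩
  refine isDef_of_bijective hD (P' := sec φ''.map φ'.map V₁) hψ (fun b => sec_ext _ _ ?_ ?_) fun p => ?_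
  · refine (hπ' b).trans ?_
    have h := sHom_appLE (bMor φ''.map φ'.map) (descMor (w_struct hP φ' φ'')) V _ le_rfl b
    rw [bMor_descMor, sHom_specMap, ← Scheme.Hom.app_eq_appLE] at h
    exact h.symm
  · refine (hπ'' b).trans ?_
    have h := sHom_appLE (gMor φ''.map φ'.map) (descMor (w_struct hP φ' φ'')) V _ le_rfl b
    rw [gMor_descMor, sHom_specMap, ← Scheme.Hom.app_eq_appLE] at h
    exact h.symm
  · refine Eq.trans ?_ (hQ' p)
    have h : (bMor φ''.map φ'.map).appLE V V₁ le_rfl ≫ ξ'.i.appLE V₁ O le_rfl =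
        (ξ'.i ≫ bMor φ''.map φ'.map).appLE V O le_rfl := Scheme.Hom.appLE_comp_appLE _ _ _ _ _ _ _
    have h' := congr($h (ψ p))
    refine h'.symm.trans ?_
    change ξ'.i.appLE V₁ O le_rfl ((bMor φ''.map φ'.map).appLE V V₁ le_rfl (ψ p)) = _
    refine congrArg (ξ'.i.appLE V₁ O le_rfl) ?_
    exact (congr($(((bMor φ''.map φ'.map).app_eq_appLE (U := V)).symm) (ψ p))).trans rfl

/-- The glued deformation. -/
noncomputable def push [IsClosedImmersion φ''.map] : DefSch X x B :=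
  ofIsDef (descMor (w_struct hP φ' φ'')) (ξ'.i ≫ bMor φ''.map φ'.map)
    (by rw [Category.assoc, bMor_descMor, ← Category.assoc, ξ'.i_f, Category.assoc, Art.specRes_comp])
    (isDef_push hP hg φ' φ'')

/-- First projection. -/
noncomputable def pushFst [IsClosedImmersion φ''.map] : Over p' ξ' (push hP hg φ' φ'') :=
  ⟨bMor φ''.map φ'.map, bMor_descMor _, rfl⟩

/-- Second projection. -/
noncomputable def pushSnd [IsClosedImmersion φ''.map] : Over p'' ξ'' (push hP hg φ' φ'') :=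
  ⟨gMor φ''.map φ'.map, gMor_descMor _, by
    change ξ''.i ≫ gMor φ''.map φ'.map = ξ'.i ≫ bMor φ''.map φ'.map
    rw [← φ''.i_map, ← φ'.i_map, Category.assoc, Category.assoc, condition]⟩

theorem nonempty_iso_push [IsClosedImmersion φ''.map] {z : DefSch X x B} (ψ' : Over p' ξ' z)
    (ψ'' : Over p'' ξ'' z) (w : φ''.map ≫ ψ''.map = φ'.map ≫ ψ'.map) :
    Nonempty ((push hP hg φ' φ'').Iso z) := by
  have hf : descMor w ≫ z.f = (push hP hg φ' φ'').f := by
    refine hom_ext φ''.map φ'.map ?_ ?_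
    · rw [← Category.assoc, bMor_descMor, ψ'.map_f]
      exact (bMor_descMor _).symm
    · rw [← Category.assoc, gMor_descMor, ψ''.map_f]
      exact (gMor_descMor _).symm
  have hi : (push hP hg φ' φ'').i ≫ descMor w = z.i := by
    change (ξ'.i ≫ bMor φ''.map φ'.map) ≫ descMor w = z.i
    rw [Category.assoc, bMor_descMor, ψ'.i_map]
  haveI := isIso_of_over (η := push hP hg φ' φ'') (descMor w) hf hi
  exact ⟨⟨asIso (descMor w), hf, hi⟩⟩

end Groth.Agent.DefGlue
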